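import Cfsg.Agent.QrcE.Trans

/-!
# S1824: the subgroup `C`

`H ∩ M` normalises `O²(M₀)` or `V`, `O₂(M₀) = C_T(V)`: there is `C ⊴ H ∩ M` with `T ∩ C = C_T(V)`.
-/

set_option autoImplicit false
set_option linter.unusedVariables false
set_option linter.style.haveILetI false

namespace Cfsg.Agent.QrcE

open Subgroup Cfsg
open Cfsg.Agent.ZN (o2)
open Cfsg.Agent.ZN.ChoiceSit
open Cfsg.Agent.ZN.ChoiceBase (cj mem_cj cj_mono cj_le_iff cj_inv_cj cj_cj_inv card_cj cj_inf cj_centralizer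
  mem_normalizer_iff_cj cj_cj cj_one normalizer_le_of_cj)
open Cfsg.Agent.MinSimple.VModule (oddGen mem_oddGen oddGen_le le_normalizer_oddGen)
open scoped commutatorElement

universe u

variable {G : Type u} [Group G]

/-- the elements of `N` centralising `Y` modulo `K`; `N` normalises `K` and `Y` -/
def cMod (N Y K : Subgroup G) (hNK : N ≤ normalizer (K : Set G)) : Subgroup G where
  carrier := {x | x ∈ N ∧ ∀ y ∈ Y, x * y * x⁻¹ * y⁻¹ ∈ K}
  one_mem' := ⟨one_mem _, fun y hy => by simp⟩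
  mul_mem' := by
    rintro a b ⟨ha, ha'⟩ ⟨hb, hb'⟩
    refine ⟨mul_mem ha hb, fun y hy => ?_⟩
    have e : a * b * y * (a * b)⁻¹ * y⁻¹ = (a * (b * y * b⁻¹ * y⁻¹) * a⁻¹) * (a * y * a⁻¹ * y⁻¹) := by group
    rw [e]
    exact mul_mem ((mem_normalizer_iff.1 (hNK ha) _).1 (hb' y hy)) (ha' y hy)
  inv_mem' := by
    rintro a ⟨ha, ha'⟩
    refine ⟨inv_mem ha, fun y hy => ?_⟩
    have e : a⁻¹ * y * a⁻¹⁻¹ * y⁻¹ = a⁻¹ * (a * y * a⁻¹ * y⁻¹)⁻¹ * a⁻¹⁻¹ := by group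
    rw [e]
    exact (mem_normalizer_iff.1 (hNK (inv_mem ha)) _).1 (inv_mem (ha' y hy))

theorem mem_cMod {N Y K : Subgroup G} {hNK : N ≤ normalizer (K : Set G)} {x : G} :
    x ∈ cMod N Y K hNK ↔ x ∈ N ∧ ∀ y ∈ Y, x * y * x⁻¹ * y⁻¹ ∈ K := Iff.rfl

theorem cMod_le {N Y K : Subgroup G} {hNK : N ≤ normalizer (K : Set G)} : cMod N Y K hNK ≤ N := fun _ hx => hx.1

theorem cMod_normal {N Y K : Subgroup G} {hNK : N ≤ normalizer (K : Set G)} (hNY : N ≤ normalizer (Y : Set G)) :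
    N ≤ normalizer ((cMod N Y K hNK : Subgroup G) : Set G) := by
  have key : ∀ m ∈ N, ∀ x ∈ cMod N Y K hNK, m * x * m⁻¹ ∈ cMod N Y K hNK := by
    intro m hm x hx
    rw [mem_cMod] at hx ⊢
    refine ⟨mul_mem (mul_mem hm hx.1) (inv_mem hm), fun y hy => ?_⟩
    have h1 : m⁻¹ * y * m⁻¹⁻¹ ∈ Y := (mem_normalizer_iff.1 (hNY (inv_mem hm)) y).1 hy
    have h2 := (mem_normalizer_iff.1 (hNK hm) _).1 (hx.2 _ h1)
    have e : m * x * m⁻¹ * y * (m * x * m⁻¹)⁻¹ * y⁻¹ =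
        m * (x * (m⁻¹ * y * m⁻¹⁻¹) * x⁻¹ * (m⁻¹ * y * m⁻¹⁻¹)⁻¹) * m⁻¹ := by group
    rw [e]
    exact h2
  intro m hm
  rw [mem_normalizer_iff]
  intro x
  refine ⟨key m hm x, fun h => ?_⟩
  have := key _ (inv_mem hm) _ h
  have e : m⁻¹ * (m * x * m⁻¹) * m⁻¹⁻¹ = x := by group
  rwa [e] at this

theorem exists_C [Finite G] (T : Sylow 2 G) {M M₀ H V : Subgroup G} (hTM₀ : (T : Subgroup G) ≤ M₀) (hM₀M : M₀ ≤ M)
    (hTH : (T : Subgroup G) ≤ H) (hR : o2 M₀ = (T : Subgroup G) ⊓ centralizer (V : Set G))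
    (hI : H ⊓ M ≤ normalizer (oddGen M₀ : Set G) ∨ H ⊓ M ≤ normalizer (V : Set G)) :
    ∃ C : Subgroup G, C ≤ H ⊓ M ∧ H ⊓ M ≤ normalizer (C : Set G) ∧
      (T : Subgroup G) ⊓ C = (T : Subgroup G) ⊓ centralizer (V : Set G) := by
  have hTM : (T : Subgroup G) ≤ H ⊓ M := le_inf hTH (hTM₀.trans hM₀M)
  rcases hI with hI | hI
  · set Y := oddGen M₀ with hY
    have hNK : H ⊓ M ≤ normalizer ((o2 Y : Subgroup G) : Set G) :=
      hI.trans (normalizer_le_of_cj (F := fun K => o2 K) ZN.ChoiceBase.pCore_cj Y)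
    refine ⟨cMod (H ⊓ M) Y (o2 Y) hNK, cMod_le, cMod_normal hI, ?_⟩
    have hYM₀ : Y ≤ M₀ := oddGen_le M₀
    have hM₀Y : M₀ ≤ normalizer (Y : Set G) := le_normalizer_oddGen M₀
    have hM₀K : M₀ ≤ normalizer ((o2 Y : Subgroup G) : Set G) :=
      hM₀Y.trans (normalizer_le_of_cj (F := fun K => o2 K) ZN.ChoiceBase.pCore_cj Y)
    have hM₀R : M₀ ≤ normalizer ((o2 M₀ : Subgroup G) : Set G) := le_normalizer_o2 M₀
    have hKR : o2 Y ≤ o2 M₀ := le_o2 (isPGroup_o2 Y) ((o2_le Y).trans hYM₀) hM₀K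
    have hRT : o2 M₀ ≤ (T : Subgroup G) := by rw [hR]; exact inf_le_left
    rw [← hR]
    apply le_antisymm
    · -- `S := {t ∈ T | [t, Y] ≤ O₂(M₀)}` is normalised by `T` and `Y`
      set S : Subgroup G := (T : Subgroup G) ⊓ cMod M₀ Y (o2 M₀) hM₀R with hS
      have hRS : o2 M₀ ≤ S := by
        refine le_inf hRT fun r hr => ?_
        rw [mem_cMod]
        refine ⟨o2_le M₀ hr, fun y hy => ?_⟩
        have h1 : y * r⁻¹ * y⁻¹ ∈ o2 M₀ := (mem_normalizer_iff.1 (hM₀R (hYM₀ hy)) _).1 (inv_mem hr)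
        have e : r * y * r⁻¹ * y⁻¹ = r * (y * r⁻¹ * y⁻¹) := by group
        rw [e]
        exact mul_mem hr h1
      have hS1 : S ≤ o2 M₀ := by
        refine le_o2 (T.isPGroup'.to_le inf_le_left) (inf_le_left.trans hTM₀) ?_
        rw [← PushGen.oddGen_sup_syl (PushGen.sylow_syl T hTM₀)]
        have e : oddGen (oddGen M₀ ⊔ (T : Subgroup G)) = oddGen M₀ := by
          rw [PushGen.oddGen_sup_syl (PushGen.sylow_syl T hTM₀)]
        refine sup_le ?_ ?_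
        · intro y hy
          refine ZN.ChoiceBase.mem_normalizer_of_cj_le ?_
          rintro _ ⟨s, hs, rfl⟩
          have h1 : s * y * s⁻¹ * y⁻¹ ∈ o2 M₀ := (mem_cMod.1 hs.2).2 y hy
          have h2 : (s * y * s⁻¹ * y⁻¹)⁻¹ * s ∈ S := mul_mem (inv_mem (hRS h1)) hs
          have e2 : (s * y * s⁻¹ * y⁻¹)⁻¹ * s = y * s * y⁻¹ := by group
          rw [e2] at h2
          exact h2
        · intro t ht
          rw [mem_normalizer_iff_cj, hS, cj_inf, mem_normalizer_iff_cj.1 (le_normalizer ht),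
            mem_normalizer_iff_cj.1 (cMod_normal hM₀Y (hTM₀ ht))]
      refine le_trans ?_ hS1
      intro t ht
      exact mem_inf.2 ⟨(mem_inf.1 ht).1, mem_cMod.2 ⟨hTM₀ (mem_inf.1 ht).1, fun y hy =>
        hKR ((mem_cMod.1 (mem_inf.1 ht).2).2 y hy)⟩⟩
    · refine le_inf hRT fun r hr => ?_
      rw [mem_cMod]
      refine ⟨hTM (hRT hr), fun y hy => ?_⟩
      -- `[R, Y] ≤ R ∩ Y ≤ O₂(Y)`
      have h0 : o2 M₀ ⊓ Y ≤ o2 Y := by
        refine le_o2 ((isPGroup_o2 M₀).to_le inf_le_left) inf_le_right ?_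
        intro z hz
        rw [mem_normalizer_iff_cj, cj_inf, mem_normalizer_iff_cj.1 (hM₀R (hYM₀ hz)),
          mem_normalizer_iff_cj.1 (le_normalizer hz)]
      apply h0
      refine mem_inf.2 ⟨?_, ?_⟩
      · have h1 : y * r⁻¹ * y⁻¹ ∈ o2 M₀ := (mem_normalizer_iff.1 (hM₀R (hYM₀ hy)) _).1 (inv_mem hr)
        have e : r * y * r⁻¹ * y⁻¹ = r * (y * r⁻¹ * y⁻¹) := by group
        rw [e]
        exact mul_mem hr h1
      · exact mul_mem ((mem_normalizer_iff.1 (hM₀Y (o2_le M₀ hr)) y).1 hy) (inv_mem hy)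
  · refine ⟨H ⊓ M ⊓ centralizer (V : Set G), inf_le_left, ?_, ?_⟩
    · intro m hm
      rw [mem_normalizer_iff_cj, cj_inf, mem_normalizer_iff_cj.1 (le_normalizer hm), cj_centralizer,
        mem_normalizer_iff_cj.1 (hI hm)]
    · rw [← inf_assoc, inf_eq_left.2 hTM]

end Cfsg.Agent.QrcE
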