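import Cfsg.Agent.QrcE.DWc
import Cfsg.Agent.QrcE.COne

/-!
# S1824, case `V ≰ O₂(H)`: the reduction to class two
-/

set_option autoImplicit false
set_option linter.unusedVariables false
set_option linter.unusedSectionVars false

namespace Cfsg.Agent.QrcE

open Subgroup Cfsg Cfsg.Agent.MinSimple.MinParabolic Cfsg.Agent.Omega.FFBr Cfsg.Agent.Qrc
open Cfsg.Agent.PLocal.ThompsonJ
open Cfsg.Agent.ZN (o2 jj)
open Cfsg.Agent.ZN.ChoiceSit (o2_le isPGroup_o2 le_o2 le_normalizer_o2 o2_le_syl Syl exists_syl syl_conj syl_iff)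
open Cfsg.Agent.ZN.ChoiceBase (AA AA_nonempty mem_AA_iff le_jj jj_le jj_eq jj_eq_of_jj_le normalizer_le_jj jj_mono mm_eq
  mm_cj jj_cj mm mm_mono
  cj mem_cj cj_mono cj_le_iff cj_inv_cj cj_cj_inv card_cj cj_inf cj_centralizer isPGroup_cj
  isElementaryAbelian_cj mem_normalizer_iff_cj cj_cj cj_one mem_normalizer_of_cj_le cj_normalizer)
open scoped commutatorElement

universe u

variable {X : Type u} [Group X]

/-- the data of `exists_L` -/
structure LL (T : Sylow 2 X) (M V L : Subgroup X) : Prop where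
  d : Dit T M V
  JL : jj (T : Subgroup X) ≤ L
  QL : pCore 2 X ≤ L
  nLM : ¬ L ≤ M
  lmin : ∀ Y : Subgroup X, jj (T : Subgroup X) ≤ Y → pCore 2 X ≤ Y → Y ≤ L → Y ≠ L → Y ≤ M
  syl : Syl ((T : Subgroup X) ⊓ L) L

theorem exists_LL [Finite X] {T : Sylow 2 X} {M V : Subgroup X} (h : Dit T M V) : ∃ L : Subgroup X, LL T M V L := by
  obtain ⟨L, h1, h2, h3, h4, h5⟩ := exists_L h
  exact ⟨L, h, h1, h2, h3, h4, h5⟩

theorem map_conj_subtype {L : Subgroup X} (x : L) (K : Subgroup L) :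
    (cj x K).map L.subtype = cj (x : X) (K.map L.subtype) := by
  ext y
  constructor
  · rintro ⟨_, ⟨k, hk, rfl⟩, rfl⟩
    exact ⟨k, ⟨k, hk, rfl⟩, rfl⟩
  · rintro ⟨_, ⟨k, hk, rfl⟩, rfl⟩
    exact ⟨x * k * x⁻¹, ⟨k, hk, rfl⟩, rfl⟩

theorem comm_sup_le {Y : Type u} [Group Y] {A B C : Subgroup Y} [A.Normal] [hB : B.Normal] [hC : C.Normal] :
    ⁅A, B ⊔ C⁆ ≤ ⁅A, B⁆ ⊔ ⁅A, C⁆ := by
  rw [commutator_le]
  intro a ha x hx
  obtain ⟨b, hb, c, hc, rfl⟩ := mem_sup_of_normal_left.1 hx
  have hn : (⁅A, C⁆).Normal := commutator_normal A C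
  have e : ⁅a, b * c⁆ = ⁅a, b⁆ * (b * ⁅a, c⁆ * b⁻¹) := by
    rw [commutatorElement_def, commutatorElement_def, commutatorElement_def]; group
  rw [e]
  exact mul_mem (mem_sup_left (commutator_mem_commutator ha hb))
    (mem_sup_right (hn.conj_mem _ (commutator_mem_commutator ha hc) b))

namespace LL

variable [Finite X] {T : Sylow 2 X} {M V L : Subgroup X} (h : LL T M V L)
include h

theorem exists_T : ∃ S : Sylow 2 L, (S : Subgroup L) = (T : Subgroup X).subgroupOf L := by
  obtain ⟨S, hS⟩ := syl_iff.1 h.syl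
  refine ⟨S, ?_⟩
  have h1 : ((S : Subgroup L).map L.subtype).subgroupOf L = (S : Subgroup L) :=
    comap_map_eq_self_of_injective L.subtype_injective _
  rw [← h1, hS, inf_subgroupOf_right]

theorem VL : V ≤ L := h.d.V_le_jj.trans h.JL

theorem JT : jj (T : Subgroup X) ≤ (T : Subgroup X) ⊓ L := le_inf (jj_le _) h.JL

theorem isMin : IsMin ((T : Subgroup X).subgroupOf L) (M.subgroupOf L) := by
  refine ⟨fun h1 => h.nLM (subgroupOf_eq_top.1 h1), fun K hTK hK => ?_⟩
  have h1 : K.map L.subtype ≤ M := by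
    refine h.lmin _ ?_ ?_ (map_subtype_le K) fun h2 => hK ?_
    · intro t ht
      exact ⟨⟨t, h.JL ht⟩, hTK (show t ∈ (T : Subgroup X) from jj_le _ ht), rfl⟩
    · intro t ht
      exact ⟨⟨t, h.QL ht⟩, hTK (pCore_le T ht), rfl⟩
    · rw [eq_top_iff]
      intro x _
      have hx : (x : X) ∈ K.map L.subtype := by rw [h2]; exact x.2
      obtain ⟨y, hy, hyx⟩ := hx
      rwa [← Subtype.ext hyx]
  intro x hx
  exact h1 ⟨x, hx, rfl⟩

theorem sup_T : L ⊔ (T : Subgroup X) = ⊤ := by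
  by_contra h1
  exact h.nLM (le_sup_left.trans (h.d.min.le_of _ le_sup_right h1))

/-- a subgroup normalised by `T` and `L` is normal -/
theorem normal_of {K : Subgroup X} (hT : (T : Subgroup X) ≤ normalizer (K : Set X)) (hL : L ≤ normalizer (K : Set X)) :
    K.Normal := by
  rw [← normalizer_eq_top_iff, eq_top_iff, ← h.sup_T]
  exact sup_le hL hT

/-- generation -/
theorem gen (x : L) (hx : x ∉ M.subgroupOf L) (K : Subgroup L) (h1 : (jj (T : Subgroup X)).subgroupOf L ≤ K)
    (h2 : cj x ((jj (T : Subgroup X)).subgroupOf L) ≤ K) (h3 : (pCore 2 X).subgroupOf L ≤ K) : K = ⊤ := by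
  by_contra hK
  have hKM : K.map L.subtype ≤ M := by
    refine h.lmin _ ?_ ?_ (map_subtype_le K) fun h2 => hK ?_
    · intro t ht
      exact ⟨⟨t, h.JL ht⟩, h1 ht, rfl⟩
    · intro t ht
      exact ⟨⟨t, h.QL ht⟩, h3 ht, rfl⟩
    · rw [eq_top_iff]
      intro x _
      have hx : (x : X) ∈ K.map L.subtype := by rw [h2]; exact x.2
      obtain ⟨y, hy, hyx⟩ := hx
      rwa [← Subtype.ext hyx]
  apply hx
  change (x : X) ∈ M
  -- `J^x ≤ M`
  have h4 : cj (x : X) (jj (T : Subgroup X)) ≤ M := by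
    have h5 := map_mono (f := L.subtype) h2
    rw [map_conj_subtype, map_subgroupOf_eq_of_le h.JL] at h5
    exact h5.trans hKM
  have hJ2 : IsPGroup 2 (jj (T : Subgroup X)) := T.isPGroup'.to_le (jj_le _)
  obtain ⟨m, hm, hm2⟩ := exists_cj_le' T h.d.T_le_M (isPGroup_cj _ hJ2) h4
  have h5 : jj (T : Subgroup X) ≤ cj ((x : X)⁻¹ * m) (T : Subgroup X) := by
    have := cj_mono (x : X)⁻¹ hm2
    rwa [cj_inv_cj, cj_cj] at this
  have h6 := h.d.jj_normalizer_le (jj_wc h5)
  have h7 := M.mul_mem h6 (M.inv_mem hm)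
  rw [mul_inv_cancel_right] at h7
  have h8 := M.inv_mem h7
  rwa [inv_inv] at h8

theorem hTL {t : L} (ht : t ∈ (T : Subgroup X).subgroupOf L) : (t : X) ∈ (T : Subgroup X) := ht

theorem sub_norm {K : Subgroup X} (hK : (T : Subgroup X) ≤ normalizer (K : Set X)) :
    (T : Subgroup X).subgroupOf L ≤ normalizer ((K.subgroupOf L : Subgroup L) : Set L) := by
  intro t ht
  rw [mem_normalizer_iff]
  intro v
  exact mem_normalizer_iff.1 (hK ht) (v : X)

/-- **case B** -/
theorem dit {S : Sylow 2 L} (hS : (S : Subgroup L) = (T : Subgroup X).subgroupOf L)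
    (hV : ¬ V.subgroupOf L ≤ pCore 2 L) : Dit S (M.subgroupOf L) (V.subgroupOf L) := by
  have hVL := h.VL
  refine ⟨by rw [hS]; exact h.isMin, ?_, ?_, ?_, ?_, hV, ?_⟩
  · have h1 : pCore 2 X ≤ o2 L := by
      refine le_o2 (Lib.Cores.pCore_isPGroup 2) h.QL ?_
      have : (pCore 2 X).Normal := pCore_normal
      exact le_normalizer_of_normal
    intro x hx
    have h2 : (x : X) ∈ centralizer ((pCore 2 X : Subgroup X) : Set X) := by
      rw [mem_centralizer_iff]
      intro q hq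
      obtain ⟨y, hy, hyq⟩ := h1 hq
      have h3 := mem_centralizer_iff.1 hx y hy
      rw [← hyq]
      exact congrArg Subtype.val h3
    have h3 := h1 (h.d.c2 h2)
    obtain ⟨y, hy, hyx⟩ := h3
    rwa [← Subtype.ext hyx]
  · rw [hS]
    exact fun x hx => h.d.VT hx
  · rw [hS]
    exact h.sub_norm h.d.TV
  · exact isElementaryAbelian_comap h.d.el L.subtype_injective
  · rw [hS]
    intro h1
    exact h.d.no (cubic_map hVL h1)

theorem caseB (hFF : AStmt.{u}) {S : Sylow 2 L} (hS : (S : Subgroup L) = (T : Subgroup X).subgroupOf L)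
    (hV : ¬ V.subgroupOf L ≤ pCore 2 L) :
    ⁅dd (V.subgroupOf L), uu (V.subgroupOf L)⁆ ≤ centralizer ((OO L : Subgroup L) : Set L) := by
  refine comm_dd_le (h.dit hS hV) (J := (jj (T : Subgroup X)).subgroupOf L) (R := (pCore 2 X).subgroupOf L)
    ?_ ?_ ?_ ?_ ?_ h.gen
  · rw [hS]; exact h.sub_norm h.d.T_le_jj
  · rw [hS]; exact fun x hx => (show (x : X) ∈ (T : Subgroup X) from jj_le _ hx)
  · exact fun x hx => h.d.V_le_jj hx
  · rw [centralizer_subgroupOf h.VL]
    exact fun x hx => h.d.jj_le_centralizer hx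
  · refine Lib.Cores.le_pCore ?_ ?_
    · have : (pCore 2 X).Normal := pCore_normal
      exact normal_subgroupOf
    · exact (Lib.Cores.pCore_isPGroup (G := X) 2).comap_of_injective _ L.subtype_injective

/-- **case A** -/
theorem caseA (hFF : AStmt.{u}) {S : Sylow 2 L} (hS : (S : Subgroup L) = (T : Subgroup X).subgroupOf L)
    (hV : V.subgroupOf L ≤ pCore 2 L) : False := by
  have hVL := h.VL
  set W0 : Subgroup L := V.subgroupOf L with hW0
  have hWmap : W0.map L.subtype = V := map_subgroupOf_eq_of_le hVL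
  have hnormV : ¬ L ≤ normalizer (V : Set X) := fun h1 => h.nLM (h1.trans
    (h.d.normalizer_le le_rfl (T.isPGroup'.to_le h.d.VT) h.d.TV))
  have hSV : (S : Subgroup L) ≤ normalizer (W0 : Set L) := by
    rw [hS]; exact h.sub_norm h.d.TV
  have hnoq : ¬ QuadParamLE (S : Subgroup L) W0 2 := by
    intro h1
    rw [hS] at h1
    exact h.d.noq (quad_map hVL h1)
  have hWe : IsElementaryAbelian 2 W0 := isElementaryAbelian_comap h.d.el L.subtype_injective
  have hQn : (pCore 2 ↥L).Normal := pCore_normal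
  have hWg : ∀ g : L, cj g W0 ≤ (S : Subgroup L) := by
    intro g
    refine le_trans ?_ (pCore_le S)
    rintro _ ⟨w, hw, rfl⟩
    exact hQn.conj_mem w (hV hw) g
  have hUel : IsElementaryAbelian 2 (normalClosure (W0 : Set L)) := by
    refine Uel_of hWe fun g => ?_
    by_contra hcon
    exact hnoq (quad_of_pair hWe (hWg g) (hWg g⁻¹) ((hWg g).trans hSV) ((hWg g⁻¹).trans hSV) hcon)
  have hsit : Sit S (M.subgroupOf L) W0 :=
    ⟨by rw [hS]; exact h.isMin, hV, hSV, hUel, fun h1 => hnormV ((normal_subgroupOf_iff' hVL).1 h1), hnoq⟩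
  -- `J(T) ≰ O₂(L)`
  have hJTL : jj ((T : Subgroup X) ⊓ L) = jj (T : Subgroup X) := jj_eq_of_jj_le h.JT inf_le_left
  obtain ⟨A, hA, hAL⟩ : ∃ A ∈ AA (S : Subgroup L), ¬ A ≤ pCore 2 L := by
    by_contra hcon
    push Not at hcon
    have h1 : jj ((T : Subgroup X) ⊓ L) ≤ o2 L := by
      rw [jj_eq]
      refine sSup_le fun A hA => ?_
      have hAL : A ≤ L := hA.2.1.trans inf_le_right
      have h2 : A.subgroupOf L ∈ AA (((T : Subgroup X) ⊓ L).subgroupOf L) := by
        rw [mem_AA_sub inf_le_right, map_subgroupOf_eq_of_le hAL]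
        exact hA
      rw [inf_subgroupOf_right, ← hS] at h2
      have h3 := hcon _ h2
      exact (le_o2_iff hAL).1 h3
    have h2 := jj_eq_of_jj_le h1 (o2_le_syl h.syl)
    apply h.nLM
    refine le_trans ?_ h.d.jj_normalizer_le
    rw [← hJTL, ← h2]
    exact (le_normalizer_o2 L).trans (normalizer_le_jj _)
  set U : Subgroup L := normalClosure (W0 : Set L) with hU
  have hUn : U.Normal := normalClosure_normal
  set W : Subgroup L := ⁅U, OO L⁆ with hW
  have hWn : W.Normal := commutator_normal U (OO L)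
  have hWU : W ≤ U := commutator_le_left U (OO L)
  have hWW : ⁅W, OO L⁆ = W := comm_comm_eq hsit.U_isPGroup
  obtain ⟨D, hDn, hD⟩ := exists_chief (isElementaryAbelian_mono hUel hWU) hWW hsit.comm_ne
  have hDL : ⁅D, OO L⁆ = ⊥ := hsit.comm_D hFF hA hAL hD
  set R : Subgroup L := (pCore 2 X).subgroupOf L with hR
  have hRn : R.Normal := by
    have : (pCore 2 X).Normal := pCore_normal
    exact normal_subgroupOf
  have hXn : (pCore 2 X).Normal := pCore_normal
  -- `V Q` is not normal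
  have hVQ : ¬ (V ⊔ pCore 2 X).Normal := by
    intro h1
    apply h.d.VQ
    refine le_sup_left.trans (Lib.Cores.le_pCore h1 ?_)
    exact T.isPGroup'.to_le (sup_le h.d.VT (pCore_le T))
  have hTVQ : (T : Subgroup X) ≤ normalizer ((V ⊔ pCore 2 X : Subgroup X) : Set X) := by
    intro t ht
    refine mem_normalizer_of_cj_le ?_
    rw [cj, Subgroup.map_sup]
    exact sup_le_sup (mem_normalizer_iff_cj.1 (h.d.TV ht)).le (cj_pCore t).le
  have hLgen : ∀ K : Subgroup X, (T : Subgroup X) ≤ normalizer (K : Set X) →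
      (∀ l ∈ OO L, (l : X) ∈ normalizer (K : Set X)) → K.Normal := by
    intro K hTK hOK
    refine h.normal_of hTK ?_
    have h1 : (⊤ : Subgroup L) ≤ (normalizer (K : Set X)).comap L.subtype := by
      rw [← OO_sup S]
      refine sup_le (fun l hl => hOK l hl) ?_
      rw [hS]
      exact fun t ht => hTK ht
    intro x hx
    exact h1 (mem_top (⟨x, hx⟩ : L))
  -- `W ≰ Q`
  have hWR : ¬ W ≤ R := by
    intro h1
    apply hVQ
    refine hLgen _ hTVQ ?_
    intro l hl
    refine mem_normalizer_of_cj_le ?_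
    rw [cj, Subgroup.map_sup]
    refine sup_le ?_ ((cj_pCore (l : X)).le.trans le_sup_right)
    rintro _ ⟨v, hv, rfl⟩
    have h2 : ⁅(⟨v, hVL hv⟩ : L), l⁆ ∈ W :=
      commutator_mem_commutator (subset_normalClosure (show (⟨v, hVL hv⟩ : L) ∈ (W0 : Set L) from hv)) hl
    have h3 : ((⁅(⟨v, hVL hv⟩ : L), l⁆ : L) : X) ∈ pCore 2 X := h1 h2
    have e : (MulAut.conj (l : X)).toMonoidHom v = ((⁅(⟨v, hVL hv⟩ : L), l⁆ : L) : X)⁻¹ * v := by
      rw [commutatorElement_def]
      change (l : X) * v * (l : X)⁻¹ = (v * (l : X) * v⁻¹ * (l : X)⁻¹)⁻¹ * v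
      group
    rw [e]
    exact mul_mem (mem_sup_right (inv_mem h3)) (mem_sup_left hv)
  have hN : ⁅U ⊓ R, OO L⁆ = ⊥ := by
    have hWR1 : (W ⊓ R) ⊔ D ≤ W := sup_le inf_le_left hD.le
    have hn1 : ((W ⊓ R) ⊔ D).Normal := inferInstance
    have h3 : W ⊓ R ≤ D := by
      rcases hD.irr _ hn1 le_sup_right hWR1 with h1 | h1
      · rw [← h1]; exact le_sup_left
      · exfalso
        apply hWR
        rw [← hWW]
        have h2 : ⁅W, OO L⁆ ≤ ⁅W ⊓ R, OO L⁆ ⊔ ⁅D, OO L⁆ := by
          conv_lhs => rw [← h1]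
          rw [Subgroup.commutator_comm, Subgroup.commutator_comm (W ⊓ R), Subgroup.commutator_comm D]
          exact comm_sup_le
        refine h2.trans ?_
        rw [hDL, sup_bot_eq]
        exact (commutator_le_left _ _).trans inf_le_right
    refine comm_eq_bot_of_le (hsit.U_isPGroup.to_le inf_le_left) (D := D) ?_ hDL
    refine le_trans ?_ h3
    exact le_inf (commutator_mono inf_le_left le_rfl) ((commutator_le_left _ _).trans inf_le_right)
  -- `D₀ = V ∩ Q` is normal
  have hD0 : (dd V).Normal := by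
    refine hLgen _ h.d.T_le_dd ?_
    intro l hl
    refine mem_normalizer_of_cj_le ?_
    rintro _ ⟨v, hv, rfl⟩
    have hvL : v ∈ L := hVL hv.1
    have h1 : (⟨v, hvL⟩ : L) ∈ U ⊓ R := ⟨subset_normalClosure (show (⟨v, hvL⟩ : L) ∈ (W0 : Set L) from hv.1), hv.2⟩
    have h2 := comm_eq_bot_iff.1 hN _ h1 l hl
    have h3 : v * (l : X) = (l : X) * v := congrArg Subtype.val h2
    have e : (MulAut.conj (l : X)).toMonoidHom v = v := by
      change (l : X) * v * (l : X)⁻¹ = v
      rw [← h3]; group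
    rw [e]
    exact hv
  have h1 : ⁅pCore 2 X, OO X⁆ ≤ dd V := by
    refine (commutator_mono le_rfl h.d.OO_le_ncl).trans (comm_normalClosure_le ?_)
    rw [commutator_comm]
    exact h.d.comm_V_le le_rfl
  have h2 : ⁅dd V, OO X⁆ = ⊥ := by
    rw [commutator_eq_bot_iff_le_centralizer]
    have h3 : normalClosure (V : Set X) ≤ centralizer ((dd V : Subgroup X) : Set X) := by
      have : (centralizer ((dd V : Subgroup X) : Set X)).Normal := normal_centralizer
      refine normalClosure_le_normal ?_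
      intro v hv
      rw [SetLike.mem_coe, mem_centralizer_iff]
      intro d hd
      exact (isElementaryAbelian_iff.1 h.d.el).1 d hd.1 v hv
    exact (le_centralizer_iff.1 h3).trans (centralizer_le h.d.OO_le_ncl)
  exact h.d.Q_noncentral (comm_eq_bot_of_le (Lib.Cores.pCore_isPGroup 2) h1 h2)

end LL

/-- the class two statement -/
def ClassTwo : Prop :=
  ∀ (Y : Type u) [Group Y] [Finite Y] (T : Sylow 2 Y) (M V : Subgroup Y), Dit T M V →
    ⁅dd V, uu V⁆ ≤ centralizer ((OO Y : Subgroup Y) : Set Y) → False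

/-- **case (d)** -/
theorem d_main (hFF : AStmt.{u}) (hC : ClassTwo.{u}) [Finite X] {T : Sylow 2 X} {M V : Subgroup X} (h : Dit T M V) :
    False := by
  obtain ⟨L, hL⟩ := exists_LL h
  obtain ⟨S, hS⟩ := hL.exists_T
  by_cases hV : V.subgroupOf L ≤ pCore 2 L
  · exact hL.caseA hFF hS hV
  · exact hC L S _ _ (hL.dit hS hV) (hL.caseB hFF hS hV)

end Cfsg.Agent.QrcE
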