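import Cfsg.Agent.QrcE.DGen
import Cfsg.Agent.QrcE.Trans

/-!
# S1824, case `V ≰ O₂(H)`: `J(T)` and the minimal subgroup `L` over `J(T) O₂(H)`
-/

set_option autoImplicit false
set_option linter.unusedVariables false
set_option linter.unusedSectionVars false

namespace Cfsg.Agent.QrcE

open Subgroup Cfsg Cfsg.Agent.MinSimple.MinParabolic Cfsg.Agent.Omega.FFBr Cfsg.Agent.Qrc
open Cfsg.Agent.PLocal.ThompsonJ
open Cfsg.Agent.ZN (o2 jj)
open Cfsg.Agent.ZN.ChoiceSit (o2_le isPGroup_o2 le_o2 le_normalizer_o2 o2_le_syl Syl exists_syl syl_conj)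
open Cfsg.Agent.ZN.ChoiceBase (AA AA_nonempty mem_AA_iff le_jj jj_le jj_eq jj_eq_of_jj_le normalizer_le_jj jj_mono mm_eq
  mm_cj jj_cj mm mm_mono
  cj mem_cj cj_mono cj_le_iff cj_inv_cj cj_cj_inv card_cj cj_inf cj_centralizer isPGroup_cj
  isElementaryAbelian_cj mem_normalizer_iff_cj cj_cj cj_one mem_normalizer_of_cj_le cj_normalizer)
open scoped commutatorElement

universe u

variable {X : Type u} [Group X]

theorem cubic_of_quad {T V : Subgroup X} {r : ℕ} (h : QuadParamLE T V r) : CubicParamLE T V r := by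
  obtain ⟨B, hB, h1, h2, h3⟩ := h
  exact ⟨B, hB, h1, by rw [h2, commutator_bot_left], h3⟩

theorem cubic_map {H T V : Subgroup X} {r : ℕ} (hVH : V ≤ H)
    (h : CubicParamLE (T.subgroupOf H) (V.subgroupOf H) r) : CubicParamLE T V r := by
  obtain ⟨B, hBT, ⟨h1, h2, h3⟩, h4, h5⟩ := h
  set W : Subgroup H := V.subgroupOf H with hW
  have hV : V = W.map H.subtype := (map_subgroupOf_eq_of_le hVH).symm
  refine ⟨B.map H.subtype, ?_, ⟨?_, ?_, ?_⟩, ?_, ?_⟩
  · rw [map_le_iff_le_comap]; exact hBT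
  · rw [hV, map_le_centralizer_iff]; exact h1
  · rintro _ ⟨b, hb, rfl⟩
    have := h2 b hb
    rw [← comap_centralizer_map, ← hV] at this
    exact this
  · rintro _ ⟨b, hb, rfl⟩ _ ⟨c, hc, rfl⟩
    have := h3 b hb c hc
    rw [← comap_centralizer_map, ← hV] at this
    exact this
  · rw [hV, ← map_commutator, ← map_commutator, ← map_commutator, h4, Subgroup.map_bot]
  · have e1 : (V ⊓ centralizer ((B.map H.subtype : Subgroup X) : Set X)).relIndex V =
        (W ⊓ centralizer (B : Set H)).relIndex W := by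
      conv_lhs => rw [hV]
      rw [← relIndex_comap, Subgroup.comap_inf, comap_centralizer_map,
        comap_map_eq_self_of_injective H.subtype_injective]
    have e2 : (centralizer (V : Set X)).relIndex (B.map H.subtype) = (centralizer (W : Set H)).relIndex B := by
      rw [← relIndex_comap, hV, comap_centralizer_map]
    rw [e1, e2]
    exact h5

section

variable {T : Sylow 2 X} {M V : Subgroup X} (h : Dit T M V)
include h

theorem _root_.Cfsg.Agent.Qrc.Dit.T_le_M [Finite X] : (T : Subgroup X) ≤ M := by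
  refine h.min.le_of _ le_rfl fun h1 => h.VQ ?_
  have hn : (T : Subgroup X).Normal := by rw [h1]; infer_instance
  exact h.VT.trans (Lib.Cores.le_pCore hn T.isPGroup')

/-- a `T`-invariant 2-subgroup `K` with `V ≤ K` has `N(K) ≤ M` -/
theorem _root_.Cfsg.Agent.Qrc.Dit.normalizer_le [Finite X] {K : Subgroup X} (hVK : V ≤ K) (hK : IsPGroup 2 K)
    (hTK : (T : Subgroup X) ≤ normalizer (K : Set X)) : normalizer (K : Set X) ≤ M := by
  refine h.min.le_of _ hTK fun h1 => h.VQ ?_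
  exact hVK.trans (Lib.Cores.le_pCore (normalizer_eq_top_iff.1 h1) hK)

theorem _root_.Cfsg.Agent.Qrc.Dit.noq : ¬ QuadParamLE (T : Subgroup X) V 2 := fun h1 => h.no (cubic_of_quad h1)

theorem _root_.Cfsg.Agent.Qrc.Dit.AA_le [Finite X] {A : Subgroup X} (hA : A ∈ AA (T : Subgroup X)) :
    A ≤ centralizer (V : Set X) := by
  by_contra hcon
  exact h.noq (quad_of_AA h.el h.VT h.TV hA hcon)

theorem _root_.Cfsg.Agent.Qrc.Dit.le_AA [Finite X] {A : Subgroup X} (hA : A ∈ AA (T : Subgroup X)) : V ≤ A := by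
  have h1 := h.AA_le hA
  have h2 : IsElementaryAbelian 2 (A ⊔ V : Subgroup X) :=
    PLocal.ElemAbSup.isElementaryAbelian_sup hA.1 h.el (le_centralizer_iff.1 h1)
  have h3 := hA.2.2 _ h2 (sup_le hA.2.1 h.VT)
  have h4 : A = A ⊔ V := eq_of_le_of_card_ge le_sup_left h3
  rw [h4]
  exact le_sup_right

theorem _root_.Cfsg.Agent.Qrc.Dit.V_le_jj [Finite X] : V ≤ jj (T : Subgroup X) := by
  obtain ⟨A, hA⟩ := AA_nonempty (T : Subgroup X)
  exact (h.le_AA hA).trans (le_jj hA)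

theorem _root_.Cfsg.Agent.Qrc.Dit.jj_le_centralizer [Finite X] : jj (T : Subgroup X) ≤ centralizer (V : Set X) := by
  rw [jj_eq]
  exact sSup_le fun A hA => h.AA_le hA

theorem _root_.Cfsg.Agent.Qrc.Dit.T_le_jj : (T : Subgroup X) ≤ normalizer ((jj (T : Subgroup X) : Subgroup X) : Set X) :=
  le_normalizer.trans (normalizer_le_jj _)

theorem _root_.Cfsg.Agent.Qrc.Dit.jj_normalizer_le [Finite X] :
    normalizer ((jj (T : Subgroup X) : Subgroup X) : Set X) ≤ M :=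
  h.normalizer_le h.V_le_jj (T.isPGroup'.to_le (jj_le _)) h.T_le_jj

end

/-- `J(T)` is weakly closed -/
theorem jj_wc [Finite X] {T : Subgroup X} {g : X} (hg : jj T ≤ cj g T) : g ∈ normalizer ((jj T : Subgroup X) : Set X) := by
  have hm : mm (cj g T) = mm T := mm_cj g T
  have h1 : jj T ≤ jj (cj g T) := by
    rw [jj_eq, jj_eq (cj g T)]
    refine sSup_le fun A hA => le_sSup ?_
    rw [mem_AA_iff]
    exact ⟨hA.1, (le_jj hA).trans hg, by rw [hm]; exact (mm_eq hA).le⟩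
  rw [jj_cj] at h1
  have h2 : jj T = cj g (jj T) := eq_of_le_of_card_ge h1 (card_cj g _).le
  rw [mem_normalizer_iff_cj]
  exact h2.symm

/-- conjugation of Sylow subgroups -/
theorem exists_cj_le [Finite X] (T : Sylow 2 X) {P : Subgroup X} (hP : IsPGroup 2 P) : ∃ g : X, P ≤ cj g (T : Subgroup X) := by
  have hT : Syl (T : Subgroup X) ⊤ := PushGen.sylow_syl T le_top
  obtain ⟨S, hS, hPS⟩ := exists_syl hP (le_top : P ≤ ⊤)
  obtain ⟨x, -, hx⟩ := syl_conj hS hT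
  refine ⟨x⁻¹, ?_⟩
  rw [← hx, cj_inv_cj]
  exact hPS

theorem exists_cj_le' [Finite X] (T : Sylow 2 X) {P M : Subgroup X} (hTM : (T : Subgroup X) ≤ M) (hP : IsPGroup 2 P)
    (hPM : P ≤ M) : ∃ g ∈ M, P ≤ cj g (T : Subgroup X) := by
  have hT : Syl (T : Subgroup X) M := PushGen.sylow_syl T hTM
  obtain ⟨S, hS, hPS⟩ := exists_syl hP hPM
  obtain ⟨x, hxM, hx⟩ := syl_conj hS hT
  refine ⟨x⁻¹, inv_mem hxM, ?_⟩
  rw [← hx, cj_inv_cj]
  exact hPS

/-- **the minimal subgroup** `L` over `J(T) O₂(X)` not in `M` -/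
theorem exists_L [Finite X] {T : Sylow 2 X} {M V : Subgroup X} (h : Dit T M V) :
    ∃ L : Subgroup X, jj (T : Subgroup X) ≤ L ∧ pCore 2 X ≤ L ∧ ¬ L ≤ M ∧
      (∀ Y : Subgroup X, jj (T : Subgroup X) ≤ Y → pCore 2 X ≤ Y → Y ≤ L → Y ≠ L → Y ≤ M) ∧
      Syl ((T : Subgroup X) ⊓ L) L := by
  set J := jj (T : Subgroup X) with hJ
  set Q := pCore 2 X with hQ
  let S : Set (Subgroup X) := {L | J ≤ L ∧ Q ≤ L ∧ ¬ L ≤ M}
  obtain ⟨L, ⟨hJL, hQL, hLM⟩, hmin⟩ := Set.exists_min_image S (fun L => Nat.card L) (Set.toFinite _)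
    ⟨⊤, le_top, le_top, fun h1 => h.min.ne_top (top_le_iff.1 h1)⟩
  have hminL : ∀ L' : Subgroup X, Nat.card L' = Nat.card L → ∀ Y : Subgroup X, J ≤ Y → Q ≤ Y → Y ≤ L' → Y ≠ L' →
      Y ≤ M := by
    intro L' hL' Y h1 h2 h3 h4
    by_contra h5
    have h6 := hmin Y ⟨h1, h2, h5⟩
    exact h4 (eq_of_le_of_card_ge h3 (by rw [hL']; exact h6))
  have hJ2 : IsPGroup 2 J := T.isPGroup'.to_le (jj_le _)
  have hQn : Q.Normal := pCore_normal
  have hJQ2 : IsPGroup 2 (J ⊔ Q : Subgroup X) := T.isPGroup'.to_le (sup_le (jj_le _) (pCore_le T))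
  obtain ⟨P, hP, hJQP⟩ := exists_syl hJQ2 (sup_le hJL hQL)
  obtain ⟨g, hg⟩ := exists_cj_le T hP.2.1
  have hgJ : g ∈ normalizer (J : Set X) := jj_wc ((le_sup_left.trans hJQP).trans hg)
  have hgM : g ∈ M := h.jj_normalizer_le hgJ
  have hJg : cj g⁻¹ J = J := mem_normalizer_iff_cj.1 (inv_mem hgJ)
  have hQg : cj g⁻¹ Q = Q := cj_pCore g⁻¹
  refine ⟨cj g⁻¹ L, ?_, ?_, ?_, ?_, ?_⟩
  · rw [← hJg]; exact cj_mono _ hJL
  · rw [← hQg]; exact cj_mono _ hQL
  · intro h1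
    apply hLM
    intro x hx
    have h2 : g⁻¹ * x * g⁻¹⁻¹ ∈ M := h1 ⟨x, hx, rfl⟩
    have h3 := M.mul_mem (M.mul_mem hgM h2) (M.inv_mem hgM)
    have e : g * (g⁻¹ * x * g⁻¹⁻¹) * g⁻¹ = x := by group
    rwa [e] at h3
  · exact hminL _ (card_cj g⁻¹ L)
  · have h1 : cj g⁻¹ P ≤ (T : Subgroup X) := by
      rw [cj_le_iff, inv_inv]
      exact hg
    refine ⟨inf_le_right, T.isPGroup'.to_le inf_le_left, fun Z hZ hZ2 hTZ => ?_⟩
    have h2 : cj g⁻¹ P ≤ (T : Subgroup X) ⊓ cj g⁻¹ L := le_inf h1 (cj_mono _ hP.1)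
    -- `cj g Z` is a 2-subgroup of `L` over `P`
    have h3 : P ≤ cj g Z := by
      have := cj_mono g (h2.trans hTZ)
      rwa [cj_cj_inv] at this
    have h4 : cj g Z ≤ L := by
      have := cj_mono g hZ
      rwa [cj_cj_inv] at this
    have h5 := hP.2.2 (cj g Z) h4 (isPGroup_cj g hZ2) h3
    refine le_antisymm ?_ hTZ
    refine le_trans ?_ h2
    rw [← h5, cj_inv_cj]

end Cfsg.Agent.QrcE
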