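import Cfsg.Agent.QrcE.Basic
import Cfsg.Agent.Mrg.Omega.VP

/-!
# S1824: the abstract FF theorem for an irreducible module, not necessarily faithful

`X` finite, `T` a Sylow 2-subgroup in a unique maximal subgroup `M`, `F` an irreducible elementary abelian `X`-module
on which `O²(X)` acts nontrivially, `ker X F` the kernel.

* `abs_quo` : `X / ker X F` satisfies `FFBr.Abs`;
* `noOver` : `|A : C_A(F)| ≤ |F : C_F(A)|`.
-/

set_option autoImplicit false
set_option linter.unusedVariables false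
set_option linter.unusedSectionVars false
set_option linter.style.haveILetI false

namespace Cfsg.Agent.QrcE

open Subgroup Cfsg Cfsg.Agent.MinSimple.MinParabolic Cfsg.Agent.Omega.FFBr
open Cfsg.Agent.ClassTwoFusion.Quad (cv mem_cv cv_anti)

universe u

section

variable (X F : Type u) [Group X] [Group F] [MulDistribMulAction X F]

/-- the kernel of the action -/
def ker : Subgroup X where
  carrier := {x | ∀ v : F, x • v = v}
  one_mem' := fun v => one_smul _ v
  mul_mem' := fun {a b} ha hb v => by rw [mul_smul, hb v, ha v]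
  inv_mem' := fun {a} ha v => by
    conv_lhs => rw [← ha v]
    rw [inv_smul_smul]

variable {X F}

theorem mem_ker {x : X} : x ∈ ker X F ↔ ∀ v : F, x • v = v := Iff.rfl

instance ker_normal : (ker X F).Normal :=
  ⟨fun n hn g v => by rw [mul_smul, mul_smul, hn, smul_inv_smul]⟩

variable (X F)

/-- the action of `X / ker` -/
@[reducible] def quoAct : MulDistribMulAction (X ⧸ ker X F) F :=
  MulDistribMulAction.compHom F (QuotientGroup.lift (ker X F) (MulDistribMulAction.toMulAut X F)
    (fun x hx => MulEquiv.ext fun m => hx m))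

variable {X F}

/-- the fixed points of a normal subgroup are invariant -/
theorem cv_normal_inv {N : Subgroup X} (hN : N.Normal) (x : X) {v : F} (hv : v ∈ cv F (N : Set X)) :
    x • v ∈ cv F (N : Set X) := by
  intro n hn
  have h1 : x⁻¹ * n * x⁻¹⁻¹ ∈ N := hN.conj_mem n hn x⁻¹
  have h2 : (x⁻¹ * n * x⁻¹⁻¹) • v = v := hv _ h1
  rw [inv_inv, mul_smul, mul_smul, inv_smul_eq_iff] at h2
  exact h2

/-- a 2-group acting on a nontrivial 2-group has nontrivial fixed points -/
theorem exists_fixed [Finite F] (sq : ∀ v : F, v * v = 1) (hF : Nontrivial F) {P : Subgroup X} (hP : IsPGroup 2 P) :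
    ∃ v : F, v ≠ 1 ∧ ∀ p ∈ P, p • v = v := by
  have h2 : 2 ∣ Nat.card F := by
    have h3 : IsPGroup 2 F := fun v => ⟨1, by rw [pow_one, pow_two]; exact sq v⟩
    obtain ⟨n, hn⟩ := IsPGroup.iff_card.1 h3
    have h4 : 1 < Nat.card F := Finite.one_lt_card
    rw [hn] at h4 ⊢
    refine dvd_pow_self 2 ?_
    rintro rfl
    simp at h4
  have h1 : (1 : F) ∈ MulAction.fixedPoints P F := fun p => smul_one (p : X)
  obtain ⟨v, hv, hne⟩ := hP.exists_fixed_point_of_prime_dvd_card_of_fixed_point F h2 h1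
  exact ⟨v, fun h => hne h.symm, fun p hp => hv ⟨p, hp⟩⟩

/-- the hypotheses on the module -/
structure IrrMod (X F : Type u) [Group X] [Group F] [MulDistribMulAction X F] : Prop where
  sq : ∀ v : F, v * v = 1
  irr : ∀ W : Subgroup F, (∀ x : X, ∀ w ∈ W, x • w ∈ W) → W = ⊥ ∨ W = ⊤
  nt : ∃ x : X, Odd (orderOf x) ∧ ∃ v : F, x • v ≠ v

theorem comm_of_sq (sq : ∀ v : F, v * v = 1) (v w : F) : v * w = w * v := by
  have h1 : ∀ v : F, v⁻¹ = v := fun v => inv_eq_of_mul_eq_one_left (sq v)
  have h2 := h1 (v * w)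
  rw [mul_inv_rev, h1, h1] at h2
  exact h2.symm

namespace IrrMod

variable (h : IrrMod X F)
include h

theorem nontrivial : Nontrivial F := by
  obtain ⟨x, -, v, hv⟩ := h.nt
  exact ⟨_, _, hv⟩

/-- normal 2-subgroups act trivially -/
theorem le_ker [Finite F] {N : Subgroup X} (hN : N.Normal) (hp : IsPGroup 2 N) : N ≤ ker X F := by
  obtain ⟨v, hv1, hv⟩ := exists_fixed h.sq h.nontrivial hp
  rcases h.irr (cv F (N : Set X)) (fun x w hw => cv_normal_inv hN x hw) with h1 | h1
  · exact absurd (mem_bot.1 (h1 ▸ (show v ∈ cv F (N : Set X) from hv))) hv1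
  · intro n hn w
    have h2 : w ∈ cv F (N : Set X) := by rw [h1]; trivial
    exact h2 n hn

theorem not_OO_le : ¬ OO X ≤ ker X F := by
  intro h1
  obtain ⟨x, hx, v, hv⟩ := h.nt
  exact hv (h1 (mem_OO hx) v)

variable [Finite X] {T : Sylow 2 X} {M : Subgroup X}

theorem ker_sup_le (hm : IsMin (T : Subgroup X) M) : ker X F ⊔ (T : Subgroup X) ≤ M := by
  refine hm.le_of _ le_sup_right fun h1 => h.not_OO_le (OO_le_of_sup T.isPGroup' h1)

theorem inf_ker (hm : IsMin (T : Subgroup X) M) [Finite F] : (T : Subgroup X) ⊓ ker X F = pCore 2 X := by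
  apply le_antisymm
  · rcases inf_le_or hm (ker X F) with h1 | h1
    · exact h1
    · exact absurd h1 h.not_OO_le
  · exact le_inf (pCore_le T) (h.le_ker pCore_normal (Lib.Cores.pCore_isPGroup 2))

end IrrMod

/-- the Sylow subgroup of the quotient -/
noncomputable def sylQ [Finite X] (T : Sylow 2 X) (K : Subgroup X) [K.Normal] : Sylow 2 (X ⧸ K) :=
  T.mapSurjective (QuotientGroup.mk'_surjective K)

theorem sylQ_coe [Finite X] (T : Sylow 2 X) (K : Subgroup X) [K.Normal] :
    ((sylQ T K : Sylow 2 (X ⧸ K)) : Subgroup (X ⧸ K)) = (T : Subgroup X).map (QuotientGroup.mk' K) := rfl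

/-- the quotient satisfies the hypotheses of the abstract FF theorem -/
theorem IrrMod.abs_quo [Finite X] [Finite F] {T : Sylow 2 X} {M : Subgroup X} (hm : IsMin (T : Subgroup X) M)
    (h : IrrMod X F) :
    letI := quoAct X F
    Abs (X ⧸ ker X F) F (sylQ T (ker X F)) (M.map (QuotientGroup.mk' (ker X F))) := by
  letI := quoAct X F
  have hKM : ker X F ≤ M := le_sup_left.trans (h.ker_sup_le hm)
  have hTM : (T : Subgroup X) ≤ M := le_sup_right.trans (h.ker_sup_le hm)
  have hsm : ∀ (x : X) (v : F), (QuotientGroup.mk' (ker X F) x) • v = x • v := fun _ _ => rfl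
  have hfaith : ∀ y : X ⧸ ker X F, (∀ v : F, y • v = v) → y = 1 := by
    intro y hy
    obtain ⟨x, rfl⟩ := QuotientGroup.mk'_surjective (ker X F) y
    exact (QuotientGroup.eq_one_iff x).2 hy
  have hcomapM : (M.map (QuotientGroup.mk' (ker X F))).comap (QuotientGroup.mk' (ker X F)) = M := by
    rw [comap_map_eq, QuotientGroup.ker_mk', sup_eq_left.2 hKM]
  -- a fixed vector of `T`
  obtain ⟨v₀, hv₀1, hv₀⟩ := exists_fixed (X := X) h.sq h.nontrivial T.isPGroup'
  have hv₀' : ∀ t ∈ (sylQ T (ker X F) : Subgroup (X ⧸ ker X F)), t • v₀ = v₀ := by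
    rintro _ ⟨t, ht, rfl⟩
    exact hv₀ t ht
  refine ⟨comm_of_sq h.sq, h.sq, hfaith, ?_, ?_, ?_, ?_, ?_, ?_⟩
  · intro N hN hp
    rw [eq_bot_iff]
    have hirr : ∀ W : Subgroup F, (∀ x : X ⧸ ker X F, ∀ w ∈ W, x • w ∈ W) → W = ⊥ ∨ W = ⊤ :=
      fun W hW => h.irr W fun x w hw => hW (QuotientGroup.mk' (ker X F) x) w hw
    obtain ⟨v, hv1, hv⟩ := exists_fixed (X := X ⧸ ker X F) h.sq h.nontrivial hp
    rcases hirr (cv F (N : Set (X ⧸ ker X F))) (fun x w hw => cv_normal_inv hN x hw) with h1 | h1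
    · exact absurd (mem_bot.1 (h1 ▸ (show v ∈ cv F (N : Set (X ⧸ ker X F)) from hv))) hv1
    · intro n hn
      rw [mem_bot]
      refine hfaith n fun w => ?_
      have h2 : w ∈ cv F (N : Set (X ⧸ ker X F)) := by rw [h1]; trivial
      exact h2 n hn
  · exact map_mono hTM
  · intro h1
    apply hm.ne_top
    rw [← hcomapM, h1, comap_top]
  · intro K hTK
    by_cases h1 : K.comap (QuotientGroup.mk' (ker X F)) = ⊤
    · right
      rw [← map_comap_eq_self_of_surjective (QuotientGroup.mk'_surjective (ker X F)) K, h1,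
        map_top_of_surjective _ (QuotientGroup.mk'_surjective _)]
    · left
      have h2 := hm.le_of _ (map_le_iff_le_comap.1 hTK) h1
      rw [← map_comap_eq_self_of_surjective (QuotientGroup.mk'_surjective (ker X F)) K]
      exact map_mono h2
  · intro W hW
    set W' : Subgroup F := closure {w | ∃ x : X, w = x • v₀} with hW'
    have h1 : W' ≤ W := by
      rw [hW', closure_le]
      rintro _ ⟨x, rfl⟩
      exact hW v₀ hv₀' (QuotientGroup.mk' (ker X F) x)
    have h2 : ∀ x : X, ∀ w ∈ W', x • w ∈ W' := by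
      intro x w hw
      have h3 : W' ≤ W'.comap (MulDistribMulAction.toMonoidHom F x) := by
        rw [hW', closure_le]
        rintro _ ⟨y, rfl⟩
        refine subset_closure ⟨x * y, ?_⟩
        rw [mul_smul]
        rfl
      exact h3 hw
    rcases h.irr W' h2 with h3 | h3
    · have h4 : v₀ ∈ W' := subset_closure ⟨1, (one_smul _ _).symm⟩
      rw [h3, mem_bot] at h4
      exact absurd h4 hv₀1
    · rw [eq_top_iff, ← h3]
      exact h1
  · refine ⟨v₀, hv₀', ?_⟩
    by_contra hcon
    push Not at hcon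
    rcases h.irr (cv F ((⊤ : Subgroup X) : Set X)) (fun x w hw => cv_normal_inv (N := ⊤) inferInstance x hw) with h1 | h1
    · have h4 : v₀ ∈ cv F ((⊤ : Subgroup X) : Set X) := fun x _ => hcon (QuotientGroup.mk' (ker X F) x)
      rw [h1, mem_bot] at h4
      exact hv₀1 h4
    · obtain ⟨x, -, v, hv⟩ := h.nt
      apply hv
      have h2 : v ∈ cv F ((⊤ : Subgroup X) : Set X) := by rw [h1]; trivial
      exact h2 x trivial

/-- `A` acts as an elementary abelian 2-group -/
structure ActsElem (F : Type u) [Group F] [MulDistribMulAction X F] (A : Subgroup X) : Prop where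
  comm : ∀ a ∈ A, ∀ b ∈ A, ∀ v : F, a • b • v = b • a • v
  sq : ∀ a ∈ A, ∀ v : F, a • a • v = v

theorem card_map_ker [Finite X] (A : Subgroup X) :
    Nat.card (A.map (QuotientGroup.mk' (ker X F))) = (ker X F).relIndex A := by
  rw [← relIndex_bot_left, ← relIndex_comap, MonoidHom.comap_bot, QuotientGroup.ker_mk']

theorem aOff_map [Finite X] {A : Subgroup X} (hA : ActsElem F A) (hne : ¬ A ≤ ker X F)
    (hle : (cv F (A : Set X)).index ≤ (ker X F).relIndex A) :
    letI := quoAct X F
    AOff F (A.map (QuotientGroup.mk' (ker X F))) := by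
  letI := quoAct X F
  have hfaith : ∀ y z : X ⧸ ker X F, (∀ v : F, y • v = z • v) → y = z := by
    intro y z hy
    obtain ⟨x, rfl⟩ := QuotientGroup.mk'_surjective (ker X F) y
    obtain ⟨w, rfl⟩ := QuotientGroup.mk'_surjective (ker X F) z
    refine QuotientGroup.eq.2 fun v => ?_
    rw [mul_smul, inv_smul_eq_iff]
    exact (hy v).symm
  refine ⟨?_, ?_, ?_, ?_⟩
  · rintro _ ⟨a, ha, rfl⟩ _ ⟨b, hb, rfl⟩
    refine hfaith _ _ fun v => ?_
    rw [mul_smul, mul_smul]
    exact hA.comm a ha b hb v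
  · rintro _ ⟨a, ha, rfl⟩
    refine hfaith _ _ fun v => ?_
    rw [mul_smul, one_smul]
    exact hA.sq a ha v
  · intro h1
    apply hne
    intro a ha
    have h2 : QuotientGroup.mk' (ker X F) a ∈ A.map (QuotientGroup.mk' (ker X F)) := ⟨a, ha, rfl⟩
    rw [h1, mem_bot] at h2
    exact (QuotientGroup.eq_one_iff a).1 h2
  · have hcv : cv F ((A.map (QuotientGroup.mk' (ker X F)) : Subgroup (X ⧸ ker X F)) : Set (X ⧸ ker X F)) =
        cv F (A : Set X) := by
      ext v
      constructor
      · exact fun hv a ha => hv _ ⟨a, ha, rfl⟩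
      · rintro hv _ ⟨a, ha, rfl⟩
        exact hv a ha
    rw [hcv, card_map_ker]
    exact hle

/-- **no over-offender** -/
theorem IrrMod.noOver (hFF : AStmt.{u}) [Finite X] [Finite F] {T : Sylow 2 X} {M : Subgroup X}
    (hm : IsMin (T : Subgroup X) M) (h : IrrMod X F) {A : Subgroup X} (hA : ActsElem F A) :
    (ker X F).relIndex A ≤ (cv F (A : Set X)).index := by
  letI := quoAct X F
  by_contra hcon
  push Not at hcon
  have hne : ¬ A ≤ ker X F := by
    intro h1
    rw [relIndex_eq_one.2 h1] at hcon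
    have : (cv F (A : Set X)).index ≠ 0 := index_ne_zero_of_finite
    omega
  have ho := aOff_map hA hne hcon.le
  have h1 := (hFF (X ⧸ ker X F) F (sylQ T (ker X F)) _ (h.abs_quo hm) ⟨_, ho⟩).1
  have h2 := h1 _ ho.comm ho.sq
  have hcv : cv F ((A.map (QuotientGroup.mk' (ker X F)) : Subgroup (X ⧸ ker X F)) : Set (X ⧸ ker X F)) =
      cv F (A : Set X) := by
    ext v
    constructor
    · exact fun hv a ha => hv _ ⟨a, ha, rfl⟩
    · rintro hv _ ⟨a, ha, rfl⟩
      exact hv a ha
  rw [hcv, card_map_ker] at h2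
  omega

end

end Cfsg.Agent.QrcE
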